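import Groth.Agent.EtLiftLib.Basic
import Mathlib.RingTheory.AdjoinRoot
import Mathlib.LinearAlgebra.Matrix.Charpoly.LinearMap
import Mathlib.RingTheory.Etale.Basic

/-! Lifting idempotents along étale neighbourhoods. -/

set_option autoImplicit false
universe u

open Polynomial

noncomputable section

namespace Groth.Agent.EtIdemLib

variable {A : Type u} [CommRing A] (I : Ideal A)

/-- A polynomial whose lower coefficients lie in `I` is a power of `X` modulo `I`. -/
theorem exists_map_eq_X_pow {R : Type u} [CommRing R] {J : Ideal R} {M : Type u} [AddCommGroup M] [Module R M]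
    [Module.Finite R M] (f : Module.End R M) (hf : LinearMap.range f ≤ J • ⊤) :
    ∃ (p : R[X]) (d : ℕ), p.Monic ∧ p.map (Ideal.Quotient.mk J) = X ^ d ∧ aeval f p = 0 := by
  obtain ⟨p, hp, -, hc, h0⟩ := LinearMap.exists_monic_and_natDegree_eq_and_coeff_mem_pow_and_aeval_eq_zero R f J hf
  refine ⟨p, p.natDegree, hp, Polynomial.ext fun k => ?_, h0⟩
  rw [coeff_map, coeff_X_pow]
  rcases lt_trichotomy k p.natDegree with h | h | h
  · rw [if_neg h.ne, Ideal.Quotient.eq_zero_iff_mem]
    exact Ideal.pow_le_self (by omega) (hc k)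
  · rw [if_pos h, h, show p.coeff p.natDegree = 1 from hp, map_one]
  · rw [if_neg h.ne', coeff_eq_zero_of_natDegree_lt h, map_zero]

theorem bijective_away {R : Type u} [CommRing R] (J : Ideal R) (r : R) (hr : IsUnit (Ideal.Quotient.mk J r)) :
    Function.Bijective (Ideal.quotientMap (J.map (algebraMap R (Localization.Away r))) (algebraMap R (Localization.Away r))
      Ideal.le_comap_map) := by
  let R' := Localization.Away r
  let ι := algebraMap R R'
  let back : R' →+* R ⧸ J := IsLocalization.Away.lift r (g := Ideal.Quotient.mk J) hr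
  have hb : ∀ x, back (ι x) = Ideal.Quotient.mk J x := IsLocalization.Away.lift_eq r hr
  have hker : ∀ y ∈ J.map ι, back y = 0 := fun y hy => by
    have : J.map ι ≤ RingHom.ker back := Ideal.map_le_iff_le_comap.mpr fun a ha => by
      show back (ι a) = 0
      rw [hb, Ideal.Quotient.eq_zero_iff_mem]; exact ha
    exact this hy
  let back' := Ideal.Quotient.lift (J.map ι) back hker
  refine Function.bijective_iff_has_inverse.mpr ⟨back', fun x => ?_, fun y => ?_⟩
  · obtain ⟨x, rfl⟩ := Ideal.Quotient.mk_surjective x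
    rw [Ideal.quotientMap_mk]
    exact hb x
  · obtain ⟨y, rfl⟩ := Ideal.Quotient.mk_surjective y
    have hh : ((Ideal.quotientMap (J.map ι) ι Ideal.le_comap_map).comp back').comp (Ideal.Quotient.mk (J.map ι)) =
        Ideal.Quotient.mk (J.map ι) := IsLocalization.ringHom_ext (Submonoid.powers r) (RingHom.ext fun x => by
      show Ideal.quotientMap (J.map ι) ι Ideal.le_comap_map (back (ι x)) = Ideal.Quotient.mk (J.map ι) (ι x)
      rw [hb, Ideal.quotientMap_mk])
    exact congr($hh y)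

/-- An étale neighbourhood over which the idempotent of `A[X]/(χ(X² - X))` lifts. -/
theorem exists_idem_poly (χ : A[X]) (hχ : χ.Monic) (n : ℕ) (hn : 0 < n)
    (hχI : χ.map (Ideal.Quotient.mk I) = X ^ n) :
    ∃ (A' : Type u) (_ : CommRing A') (_ : Algebra A A') (_ : Algebra.Etale A A'),
      Function.Bijective (Ideal.quotientMap (I.map (algebraMap A A')) (algebraMap A A') Ideal.le_comap_map) ∧
      ∃ w : A'[X], (χ.comp (X ^ 2 - X)).map (algebraMap A A') ∣ w ^ 2 - w ∧
        X ^ 2 - X ∣ w.map (Ideal.Quotient.mk (I.map (algebraMap A A'))) - X := by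
  rcases subsingleton_or_nontrivial (A ⧸ I) with hs | hs
  · refine ⟨Localization.Away (0 : A), inferInstance, inferInstance, inferInstance,
      bijective_away I 0 (isUnit_of_subsingleton _), ?_⟩
    haveI : Subsingleton (Localization.Away (0 : A)) := IsLocalization.subsingleton (M := Submonoid.powers (0 : A)) ⟨1, pow_one 0⟩
    exact ⟨0, ⟨0, Subsingleton.elim _ _⟩, ⟨0, by
      haveI : Subsingleton (Localization.Away (0 : A) ⧸ I.map (algebraMap A (Localization.Away (0 : A)))) :=
        Ideal.Quotient.mk_surjective.subsingleton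
      exact Subsingleton.elim _ _⟩⟩
  have hcop : ∀ (R : Type u) [CommRing R], IsCoprime ((X : R[X]) ^ n) ((X - 1) ^ n) := fun R _ =>
    (show IsCoprime (X : R[X]) (X - 1) from ⟨1, -1, by ring⟩).pow
  let q := χ.comp (X ^ 2 - X)
  have hq : q.Monic := by
    haveI : Nontrivial A := Ideal.Quotient.mk_surjective.nontrivial (f := Ideal.Quotient.mk I)
    have h2 : ((X : A[X]) ^ 2 - X).Monic := monic_X_pow_sub (by simp)
    exact hχ.comp h2 (by
      rw [natDegree_sub_eq_left_of_natDegree_lt (by simp)]; simp)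
  have hqI : q.map (Ideal.Quotient.mk I) = X ^ n * (X - 1) ^ n := by
    simp only [q, Polynomial.map_comp, hχI, Polynomial.map_sub, Polynomial.map_pow, map_X, pow_comp, X_comp, ← mul_pow]
    ring
  obtain ⟨A₁, _, _, _, -, hb₁, g, h, -, -, hgh, hg, hh⟩ :=
    EtLiftLib.exists_lift_monic I q hq (X ^ n) ((X - 1) ^ n) (monic_X.pow n) (by have := (monic_X_sub_C (1 : A ⧸ I)).pow n; rwa [C_1] at this)
      (hcop _) hqI 1 (by rw [map_one]; exact isUnit_one)
  simp only [Polynomial.map_pow, Polynomial.map_sub, map_X, Polynomial.map_one] at hg hh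
  let J := I.map (algebraMap A A₁)
  obtain ⟨u, v, huv⟩ := hcop A₁
  let δ := u * g + v * h - 1
  have hδ : δ ∈ J.map (C : A₁ →+* A₁[X]) := by
    rw [show δ = u * (g - X ^ n) + v * (h - (X - 1) ^ n) by linear_combination huv]
    refine add_mem (Ideal.mul_mem_left _ _ ?_) (Ideal.mul_mem_left _ _ ?_) <;>
    · rw [Ideal.mem_map_C_iff]
      intro k
      rw [← Ideal.Quotient.eq_zero_iff_mem, ← coeff_map]
      simp only [J, Polynomial.map_sub, Polynomial.map_pow, map_X, Polynomial.map_one, hg, hh, sub_self, coeff_zero]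
  let q₁ := q.map (algebraMap A A₁)
  haveI : Module.Finite A₁ (AdjoinRoot q₁) := (AdjoinRoot.powerBasis' (hq.map _)).finite
  let μ := Algebra.lmul A₁ (AdjoinRoot q₁) (AdjoinRoot.mk q₁ δ)
  have hμ : LinearMap.range μ ≤ J • ⊤ := by
    rintro _ ⟨z, rfl⟩
    have h1 : AdjoinRoot.mk q₁ δ * z ∈ (J.map (C : A₁ →+* A₁[X])).map (AdjoinRoot.mk q₁) :=
      Ideal.mul_mem_right _ _ (Ideal.mem_map_of_mem _ hδ)
    rw [Ideal.map_map, show (AdjoinRoot.mk q₁).comp C = algebraMap A₁ (AdjoinRoot q₁) from rfl] at h1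
    rw [Ideal.smul_top_eq_map]
    exact h1
  obtain ⟨p, d, -, hpJ, hp0⟩ := exists_map_eq_X_pow μ hμ
  let r := p.eval (-1)
  have hr : IsUnit (Ideal.Quotient.mk J r) := by
    have := congrArg (Polynomial.eval (-1 : A₁ ⧸ J)) hpJ
    rw [← map_one (Ideal.Quotient.mk J), ← map_neg, eval_map, eval₂_hom, eval_pow, eval_X] at this
    show IsUnit (Ideal.Quotient.mk J (p.eval (-1)))
    rw [this, map_neg, map_one]
    exact (isUnit_one.neg).pow d
  obtain ⟨s₀, hs₀⟩ : ∃ s : AdjoinRoot q₁, (1 + AdjoinRoot.mk q₁ δ) * s = algebraMap A₁ _ r := by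
    obtain ⟨t, ht⟩ := Polynomial.X_sub_C_dvd_sub_C_eval (a := (-1 : A₁)) (p := p)
    refine ⟨-aeval (AdjoinRoot.mk q₁ δ) t, ?_⟩
    have h0 : aeval (AdjoinRoot.mk q₁ δ) p = 0 := by
      apply Algebra.lmul_injective (R := A₁)
      rw [← aeval_algHom_apply, hp0, map_zero]
    have h1 := congrArg (aeval (AdjoinRoot.mk q₁ δ)) ht
    rw [map_sub, h0, aeval_C, map_mul, map_sub, aeval_X, aeval_C, map_neg, map_one] at h1
    linear_combination h1
  obtain ⟨s, rfl⟩ := AdjoinRoot.mk_surjective s₀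
  obtain ⟨c, hc⟩ : q₁ ∣ (1 + δ) * s - C r := by
    rw [← AdjoinRoot.mk_eq_mk, map_mul, map_add, map_one, hs₀]
    rfl
  let A' := Localization.Away r
  haveI : Algebra.Etale A A' := Algebra.Etale.comp A A₁ A'
  have hJ' : I.map (algebraMap A A') = J.map (algebraMap A₁ A') := by
    rw [IsScalarTower.algebraMap_eq A A₁ A', ← Ideal.map_map]
  refine ⟨A', inferInstance, inferInstance, inferInstance, ?_, ?_⟩
  · have h3 := (bijective_away J r hr).comp hb₁
    let e := Ideal.quotEquivOfEq hJ'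
    refine (Function.Bijective.of_comp_iff' e.bijective _).mp ?_
    convert! h3 using 1
    funext x
    obtain ⟨a, rfl⟩ := Ideal.Quotient.mk_surjective x
    rfl
  obtain ⟨ri, hri⟩ : IsUnit (algebraMap A₁ A' r) := IsLocalization.Away.algebraMap_isUnit r
  let φ := Polynomial.mapRingHom (algebraMap A₁ A')
  let κ : A'[X] := C ((ri⁻¹ : A'ˣ) : A')
  have hκ : κ * φ (C r) = 1 := by
    rw [show φ (C r) = C (algebraMap A₁ A' r) from map_C _, ← C_mul, ← hri, Units.inv_mul, C_1]
  have hqe : (χ.comp (X ^ 2 - X)).map (algebraMap A A') = φ q₁ := by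
    rw [show φ q₁ = (q.map (algebraMap A A₁)).map (algebraMap A₁ A') from rfl, Polynomial.map_map]
    rfl
  let w := φ (u * g * s) * κ
  refine ⟨w, ?_, ?_⟩
  · rw [hqe]
    have e1 : φ (u * g + v * h) * φ s = φ (C r) + φ q₁ * φ c := by
      rw [← map_mul, ← map_mul, ← map_add, show (u * g + v * h) * s = C r + q₁ * c by rw [← hc]; ring]
    have e2 : φ q₁ = φ g * φ h := by rw [← map_mul]; exact congrArg φ hgh
    refine ⟨κ * φ u * φ s * (κ * φ g * φ c) - κ * κ * φ u * φ v * φ s * φ s, ?_⟩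
    simp only [w, map_mul, map_add] at e1 ⊢
    linear_combination (κ * φ u * φ g * φ s * κ) * e1 + (κ * φ u * φ g * φ s) * hκ +
      (κ * κ * φ u * φ v * φ s * φ s) * e2
  · let π := Polynomial.mapRingHom (Ideal.Quotient.mk (I.map (algebraMap A A')))
    let ψ := π.comp φ
    have hJC : ∀ z ∈ J.map (C : A₁ →+* A₁[X]), ψ z = 0 := fun z hz => by
      have : J.map (C : A₁ →+* A₁[X]) ≤ RingHom.ker ψ := Ideal.map_le_iff_le_comap.mpr fun a ha => by
        show π (φ (C a)) = 0
        rw [show φ (C a) = C (algebraMap A₁ A' a) from map_C _,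
          show π (C (algebraMap A₁ A' a)) = C (Ideal.Quotient.mk _ (algebraMap A₁ A' a)) from map_C _,
          Ideal.Quotient.eq_zero_iff_mem.mpr (hJ' ▸ Ideal.mem_map_of_mem _ ha), C_0]
      exact this hz
    have hgX : ψ g = X ^ n := by
      have : g - X ^ n ∈ J.map (C : A₁ →+* A₁[X]) := by
        rw [Ideal.mem_map_C_iff]
        intro k
        rw [← Ideal.Quotient.eq_zero_iff_mem, ← coeff_map]
        simp only [J, Polynomial.map_sub, Polynomial.map_pow, map_X, hg, sub_self, coeff_zero]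
      have h0 := hJC _ this
      rw [map_sub, sub_eq_zero, map_pow] at h0
      rw [h0]; simp [ψ, π, φ]
    have hhX : ψ h = (X - 1) ^ n := by
      have : h - (X - 1) ^ n ∈ J.map (C : A₁ →+* A₁[X]) := by
        rw [Ideal.mem_map_C_iff]
        intro k
        rw [← Ideal.Quotient.eq_zero_iff_mem, ← coeff_map]
        simp only [J, Polynomial.map_sub, Polynomial.map_pow, map_X, Polynomial.map_one, hh, sub_self, coeff_zero]
      have h0 := hJC _ this
      rw [map_sub, sub_eq_zero, map_pow] at h0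
      rw [h0]; simp [ψ, π, φ]
    have hδ0 : ψ δ = 0 := hJC _ hδ
    have hq0 : ψ q₁ = X ^ n * (X - 1) ^ n := by
      rw [show q₁ = g * h from hgh, map_mul, hgX, hhX]
    have e1 : (1 + ψ δ) * ψ s - ψ (C r) = ψ q₁ * ψ c := by
      rw [← map_one ψ, ← map_add, ← map_mul, ← map_sub, ← map_mul, hc]
    have hκ' : π κ * ψ (C r) = 1 := by
      rw [show ψ (C r) = π (φ (C r)) from rfl, ← map_mul, hκ, map_one]
    have huv' : ψ u * X ^ n + ψ v * (X - 1) ^ n = 1 := by
      have := congrArg ψ huv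
      simpa [ψ, π, φ] using this
    show X ^ 2 - X ∣ π w - X
    rw [show π w = ψ (u * g * s) * π κ from map_mul π _ _, map_mul, map_mul, hgX]
    obtain ⟨m, rfl⟩ : ∃ m, n = m + 1 := ⟨n - 1, by omega⟩
    rw [hδ0] at e1
    rw [hq0] at e1
    refine ⟨π κ * ψ u * X ^ (m + 1) * X ^ m * (X - 1) ^ m * ψ c - X ^ m * ψ u - (X - 1) ^ m * ψ v, ?_⟩
    linear_combination (ψ u * X ^ (m + 1) * π κ) * e1 + (ψ u * X ^ (m + 1)) * hκ' + X * huv'

end Groth.Agent.EtIdemLib
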